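import Mathlib
import Cfsg.Prelude.Def_Local
import Cfsg.Agent.Core.PCore
import Cfsg.Agent.Core.Frattini
import Cfsg.Agent.Layer.PConstraint
import Cfsg.Agent.Coprime.Basic

/-!
Groups of exponent six have `2`-length and `3`-length at most one.
-/

set_option autoImplicit false

namespace Cfsg.Agent.ExponentSix

open Subgroup

universe u

/-- Two commuting involutory automorphisms permuted by an element with quadratic action on a module
without two-torsion coincide. -/
theorem module_eq {M : Type*} [AddCommGroup M] (h3 : ∀ m : M, m + m + m = 0) (X X' T U : M →+ M)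
    (hX : ∀ m, m + X m + X (X m) = 0) (hX' : ∀ m, m + X' m + X' (X' m) = 0)
    (hT : ∀ m, m + T (X m) + T (X (T (X m))) = 0) (hU : ∀ m, m + U (X' m) + U (X' (U (X' m))) = 0)
    (hXT : ∀ m, X (T m) = U (X m)) (hXU : ∀ m, X' (U m) = T (X' m))
    (hTT : ∀ m, T (T m) = m) (hUU : ∀ m, U (U m) = m) (hTU : ∀ m, T (U m) = U (T m)) (m : M) :
    T m = U m := by
  have key : ∀ (A B C : M →+ M), (∀ m, m + A m + A (A m) = 0) → (∀ m, m + B (A m) + B (A (B (A m))) = 0) →
      (∀ m, A (B m) = C (A m)) → (∀ m, B (B m) = m) → (∀ m, C (C m) = m) →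
      (∀ m, B (C m) = C (B m)) → B m - C m + C (B m) - m = 0 := by
    intro A B C hA hB hAB hBB hCC hBC
    have e0 : A (A m) = - m - A m := by
      rw [eq_sub_iff_add_eq, eq_neg_iff_add_eq_zero]
      rw [← hA m]; abel
    have e1 := hB m
    rw [hAB, e0] at e1
    simp only [map_sub, map_neg, hBC] at e1
    -- apply `B` to the relation
    have e2 := congrArg B e1
    simp only [map_add, map_sub, map_neg, map_zero, hBB, hBC] at e2
    have e3 := congrArg C e2
    simp only [map_add, map_sub, map_neg, map_zero, hCC] at e3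
    have e4 : B m - C m + C (B m) - m = (B m + A m + (-C m - C (A m))) + (C (B m) + C (A m) + (-m - A m)) := by
      abel
    rw [e4, e2, e3, add_zero]
  have h1 := key X T U hX hT hXT hTT hUU hTU
  have h2 := key X' U T hX' hU hXU hUU hTT (fun m => (hTU m).symm)
  have h4 : (T m - U m) + (T m - U m) = 0 := by
    have e : (T m - U m) + (T m - U m) = (T m - U m + U (T m) - m) - (U m - T m + T (U m) - m) := by
      rw [hTU]; abel
    rw [e, h1, h2, sub_zero]
  have h5 := h3 (T m - U m)
  rw [h4, zero_add] at h5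
  exact sub_eq_zero.mp h5

variable {Q : Type u} [Group Q] [Finite Q]

theorem two_case (h : ∀ x : Q, x ^ 6 = 1) [Group.IsSolvable Q] (hO : pPrimeCore 2 Q = ⊥) :
    ¬ 2 ∣ (pCore 2 Q).index := by
  have hQ : Layer.PCoreSelfCentral 2 (Q ⧸ pPrimeCore 2 Q) :=
    Layer.isPConstrained_iff_selfCentral.mp Layer.isPConstrained_of_isSolvable
  have hC : centralizer (pCore 2 Q : Set Q) ≤ pCore 2 Q :=
    Layer.pCoreSelfCentral_congr ((QuotientGroup.quotientMulEquivOfEq hO).trans QuotientGroup.quotientBot) hQ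
  let P : Sylow 2 Q := default
  have hsq : ∀ y ∈ (P : Subgroup Q), y * y = 1 := by
    intro y hy
    obtain ⟨k, hk⟩ := P.2 ⟨y, hy⟩
    have hk' : y ^ 2 ^ k = 1 := by simpa using congrArg Subtype.val hk
    have h6 := h y
    have := pow_gcd_eq_one.mpr ⟨hk', h6⟩
    rw [← pow_two]
    rcases k with _ | k
    · rw [pow_zero, pow_one] at hk'; rw [hk', one_pow]
    · rwa [show Nat.gcd (2 ^ (k + 1)) 6 = 2 by
        rw [show 6 = 2 * 3 from rfl, Nat.Coprime.gcd_mul_right_cancel_right _ (Nat.Coprime.pow_right _ (by norm_num)),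
          pow_succ', Nat.gcd_comm, Nat.gcd_eq_left (dvd_mul_right _ _)]] at this
  have hle : (P : Subgroup Q) ≤ pCore 2 Q := fun y hy => hC (mem_centralizer_iff.mpr fun z hz => by
    have hz' : z ∈ (P : Subgroup Q) := Core.pCore_le_sylow P hz
    have e := hsq _ (mul_mem hz' hy)
    have i1 : z⁻¹ = z := inv_eq_of_mul_eq_one_left (hsq z hz')
    have i2 : y⁻¹ = y := inv_eq_of_mul_eq_one_left (hsq y hy)
    have := inv_eq_of_mul_eq_one_left e
    rw [mul_inv_rev, i1, i2] at this
    exact this.symm)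
  exact fun hd => P.not_dvd_index (hd.trans (Subgroup.index_dvd_of_le hle))

open scoped IsMulCommutative in
theorem three_case (h : ∀ x : Q, x ^ 6 = 1) [Group.IsSolvable Q] (hO : pPrimeCore 3 Q = ⊥) :
    ¬ 3 ∣ (pCore 3 Q).index := by
  intro hd
  have hV := Core.pCore_isPGroup (p := 3) (G := Q)
  set V := pCore 3 Q with hVdef
  have hQ : Layer.PCoreSelfCentral 3 (Q ⧸ pPrimeCore 3 Q) :=
    Layer.isPConstrained_iff_selfCentral.mp Layer.isPConstrained_of_isSolvable
  have hC : centralizer (V : Set Q) ≤ V :=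
    Layer.pCoreSelfCentral_congr ((QuotientGroup.quotientMulEquivOfEq hO).trans QuotientGroup.quotientBot) hQ
  -- elements of exponent six that are cubed into `V` have order dividing three
  set f := QuotientGroup.mk' V with hf
  have cube : ∀ g : Q, f g ^ 3 = 1 → g ^ 3 = 1 := by
    intro g hg
    rw [← map_pow, hf, QuotientGroup.mk'_apply, QuotientGroup.eq_one_iff] at hg
    obtain ⟨k, hk⟩ := hV ⟨_, hg⟩
    have hk' : (g ^ 3) ^ 3 ^ k = 1 := by simpa using congrArg Subtype.val hk
    have h2 : (g ^ 3) ^ 2 = 1 := by rw [← pow_mul]; exact h g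
    have := pow_gcd_eq_one.mpr ⟨hk', h2⟩
    rwa [Nat.Coprime.gcd_eq_one (Nat.Coprime.pow_left k (by norm_num)), pow_one] at this
  have h6 : ∀ w : Q ⧸ V, w ^ 6 = 1 := fun w => by
    induction w using QuotientGroup.induction_on with
    | _ g => rw [← QuotientGroup.mk_pow, h g, QuotientGroup.mk_one]
  -- the quotient by `V`
  have hW3 : pCore 3 (Q ⧸ V) = ⊥ := Core.pCore_quotient_eq_bot
  have hW2 : pPrimeCore 2 (Q ⧸ V) = ⊥ := by
    rw [eq_bot_iff, ← hW3]
    refine Core.le_pCore fun w => ⟨1, Subtype.ext ?_⟩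
    have h1 : orderOf (w : Q ⧸ V) ∣ 2 * 3 := orderOf_dvd_of_pow_eq_one (h6 _)
    have h2 : (orderOf (w : Q ⧸ V)).Coprime 2 :=
      (Core.coprime_card_pPrimeCore (G := Q ⧸ V)).coprime_dvd_left (Subgroup.orderOf_dvd_natCard _ w.2)
    rw [pow_one]
    exact orderOf_dvd_iff_pow_eq_one.mp (h2.dvd_of_dvd_mul_left h1)
  set T := pCore 2 (Q ⧸ V) with hT
  have hTC : centralizer (T : Set (Q ⧸ V)) ≤ T :=
    Layer.pCoreSelfCentral_congr ((QuotientGroup.quotientMulEquivOfEq hW2).trans QuotientGroup.quotientBot)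
      (Layer.isPConstrained_iff_selfCentral.mp Layer.isPConstrained_of_isSolvable)
  have hTsq : ∀ y ∈ T, y * y = 1 := by
    intro y hy
    obtain ⟨k, hk⟩ := Core.pCore_isPGroup (p := 2) ⟨y, hy⟩
    have hk' : y ^ 2 ^ k = 1 := by simpa using congrArg Subtype.val hk
    have hd2 : orderOf y ∣ 2 := by
      refine Nat.Coprime.dvd_of_dvd_mul_right (k := orderOf y) (n := 3) ?_ (orderOf_dvd_of_pow_eq_one (h6 y) : orderOf y ∣ 2 * 3)
      exact (Nat.Coprime.pow_left k (by norm_num : Nat.Coprime 2 3)).coprime_dvd_left (orderOf_dvd_of_pow_eq_one hk')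
    rw [← pow_two]; exact orderOf_dvd_iff_pow_eq_one.mp hd2
  have hTc : ∀ a ∈ T, ∀ b ∈ T, a * b = b * a := by
    intro a ha b hb
    have e := hTsq _ (mul_mem ha hb)
    have := inv_eq_of_mul_eq_one_left e
    rw [mul_inv_rev, inv_eq_of_mul_eq_one_left (hTsq a ha), inv_eq_of_mul_eq_one_left (hTsq b hb)] at this
    exact this.symm
  obtain ⟨xb, hxb⟩ := exists_prime_orderOf_dvd_card' (G := Q ⧸ V) 3 (by rwa [← Subgroup.index_eq_card])
  have hx3 : xb ^ 3 = 1 := orderOf_dvd_iff_pow_eq_one.mp hxb.dvd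
  have hxT : xb ∉ T := fun hx => by
    have h1 : orderOf xb ∣ 2 := orderOf_dvd_of_pow_eq_one (by rw [pow_two]; exact hTsq xb hx)
    rw [hxb] at h1; norm_num at h1
  obtain ⟨s, hs, hne⟩ : ∃ s ∈ T, xb * s * xb⁻¹ ≠ s := by
    by_contra hcon
    push Not at hcon
    exact hxT (hTC (mem_centralizer_iff.mpr fun s hs => (mul_inv_eq_iff_eq_mul.mp (hcon s hs)).symm))
  have hTn : T.Normal := Core.pCore_normal
  set s1 := xb * s * xb⁻¹ with hs1
  set s2 := xb * s1 * xb⁻¹ with hs2
  have hs1T : s1 ∈ T := hTn.conj_mem s hs xb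
  have hs2T : s2 ∈ T := hTn.conj_mem s1 hs1T xb
  have hs3 : xb * s2 * xb⁻¹ = s := by
    have e : xb * s2 * xb⁻¹ = xb ^ 3 * s * (xb ^ 3)⁻¹ := by
      rw [hs2, hs1]; simp only [pow_succ, pow_zero, one_mul]; group
    rw [e, hx3, inv_one, one_mul, mul_one]
  set tb := s * s1 with htb
  have htbT : tb ∈ T := mul_mem hs hs1T
  have hub : xb * tb * xb⁻¹ = s1 * s2 := by rw [htb, hs2, hs1]; group
  have hne' : xb * tb * xb⁻¹ ≠ tb := by
    rw [hub, htb, hTc s hs s1 hs1T]
    intro e
    have e2 : s2 = s := mul_left_cancel e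
    apply hne
    show s1 = s
    have h3 := congrArg (fun y => xb * y * xb⁻¹) e2
    rw [hs3] at h3
    exact hs1.trans h3.symm
  have hrelT : (tb * xb) ^ 3 = 1 := by
    have e : (tb * xb) ^ 3 = tb * (xb * tb * xb⁻¹) * (xb * (xb * tb * xb⁻¹) * xb⁻¹) * xb ^ 3 := by
      simp only [pow_succ, pow_zero, one_mul]; group
    have e2 : xb * (s1 * s2) * xb⁻¹ = s2 * s := by
      rw [show xb * (s1 * s2) * xb⁻¹ = (xb * s1 * xb⁻¹) * (xb * s2 * xb⁻¹) by group, hs3, ← hs2]
    rw [e, hub, e2, hx3, mul_one, htb,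
      show s * s1 * (s1 * s2) * (s2 * s) = s * (s1 * s1) * (s2 * s2) * s by group,
      hTsq _ hs1T, hTsq _ hs2T, mul_one, mul_one, hTsq _ hs]
  have hrelU : (xb * tb * xb⁻¹ * xb⁻¹) ^ 3 = 1 := by
    have e : (xb * tb * xb⁻¹ * xb⁻¹) ^ 3 =
        (xb * tb * xb⁻¹) * tb * (xb⁻¹ * tb * xb) * (xb ^ 3)⁻¹ := by
      simp only [pow_succ, pow_zero, one_mul]; group
    have e2 : xb⁻¹ * tb * xb = s2 * s := by
      have e3 : xb⁻¹ * tb * xb = xb * (xb * tb * xb⁻¹) * xb⁻¹ := by
        have : xb⁻¹ * tb * xb = (xb ^ 3)⁻¹ * (xb * (xb * tb * xb⁻¹) * xb⁻¹) * xb ^ 3 := by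
          simp only [pow_succ, pow_zero, one_mul]; group
        rw [this, hx3, inv_one, one_mul, mul_one]
      rw [e3, hub, show xb * (s1 * s2) * xb⁻¹ = (xb * s1 * xb⁻¹) * (xb * s2 * xb⁻¹) by group, hs3, ← hs2]
    rw [e, hx3, inv_one, mul_one, e2, hub, htb]
    have hm : s1 * s2 * s ∈ T := mul_mem (mul_mem hs1T hs2T) hs
    calc s1 * s2 * (s * s1) * (s2 * s) = (s1 * s2 * s) * (s1 * s2 * s) := by group
      _ = 1 := hTsq _ hm
  -- lifts
  obtain ⟨r, hr⟩ := QuotientGroup.mk'_surjective V tb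
  obtain ⟨r', hr'⟩ := QuotientGroup.mk'_surjective V xb
  set t := r ^ 3 with ht
  have hft : f t = tb := by
    rw [ht, map_pow, hf, hr, pow_succ, pow_two, hTsq _ htbT, one_mul]
  have ht2 : t * t = 1 := by rw [ht, ← pow_add]; exact h r
  set x := r' with hx'
  have hfx : f x = xb := hr'
  set u := x * t * x⁻¹ with hu
  have hfu : f u = xb * tb * xb⁻¹ := by rw [hu, map_mul, map_mul, map_inv, hft, hfx]
  have hu2 : u * u = 1 := by rw [hu, show x * t * x⁻¹ * (x * t * x⁻¹) = x * (t * t) * x⁻¹ by group, ht2, mul_one, mul_inv_cancel]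
  have hxcube : x ^ 3 = 1 := cube x (by rw [hfx, hx3])
  -- the module
  have : Group.IsNilpotent V := hV.isNilpotent
  have hcomm : commutator V ≤ frattini V := Core.commutator_le_frattini
  have : IsMulCommutative (V ⧸ frattini V) := Subgroup.Normal.quotient_commutative_iff_commutator_le.mpr hcomm
  let mk : V →* V ⧸ frattini V := QuotientGroup.mk' (frattini V)
  let a : Q → (Additive (V ⧸ frattini V) →+ Additive (V ⧸ frattini V)) := fun g =>
    MonoidHom.toAdditive (QuotientGroup.map (frattini V) (frattini V) (MulAut.conjNormal g : MulAut V).toMonoidHom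
      (Subgroup.characteristic_iff_le_comap.mp inferInstance (MulAut.conjNormal g : MulAut V)))
  have ha : ∀ g (v : V), a g (Additive.ofMul (mk v)) = Additive.ofMul (mk (MulAut.conjNormal g v)) := fun g v => rfl
  have hsurj : ∀ m : Additive (V ⧸ frattini V), ∃ v, Additive.ofMul (mk v) = m := fun m => by
    obtain ⟨v, hv⟩ := QuotientGroup.mk'_surjective (frattini V) (Additive.toMul m)
    exact ⟨v, congrArg Additive.ofMul hv⟩
  have hmul : ∀ g g' m, a g (a g' m) = a (g * g') m := by
    intro g g' m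
    obtain ⟨v, rfl⟩ := hsurj m
    rw [ha, ha, ha, map_mul, MulAut.mul_apply]
  have hone : ∀ m, a 1 m = m := by
    intro m
    obtain ⟨v, rfl⟩ := hsurj m
    rw [ha, map_one, MulAut.one_apply]
  have hinn : ∀ w ∈ V, ∀ m, a w m = m := by
    intro w hw m
    obtain ⟨v, rfl⟩ := hsurj m
    focus
      refine (ha w v).trans (congrArg Additive.ofMul ?_)
      rw [show MulAut.conjNormal w v = (⟨w, hw⟩ : V) * v * (⟨w, hw⟩ : V)⁻¹ from Subtype.ext (by simp),
        map_mul, map_mul, map_inv, mul_inv_eq_iff_eq_mul, mul_comm]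
  have hcube : ∀ m : Additive (V ⧸ frattini V), m + m + m = 0 := by
    intro m
    obtain ⟨v, rfl⟩ := hsurj m
    focus
      show Additive.ofMul (mk v * mk v * mk v) = 0
      rw [← map_mul, ← map_mul, show v * v * v = 1 from Subtype.ext (by
        have := cube (v : Q) (by rw [hf, QuotientGroup.mk'_apply, (QuotientGroup.eq_one_iff _).mpr v.2, one_pow])
        show (v : Q) * v * v = 1
        rw [← this, pow_succ, pow_two]), map_one]
      rfl
  have hrel : ∀ g : Q, f g ^ 3 = 1 → ∀ m, m + a g m + a g (a g m) = 0 := by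
    intro g hg m
    obtain ⟨v, rfl⟩ := hsurj m
    focus
      have e : v * MulAut.conjNormal g v * MulAut.conjNormal g (MulAut.conjNormal g v) = 1 := by
        refine Subtype.ext ?_
        have h1 : ((v : Q) * g) ^ 3 = 1 := cube _ (by
          rw [map_mul, show f (v : Q) = 1 from (QuotientGroup.eq_one_iff _).mpr v.2, one_mul, hg])
        have h2 := cube g hg
        show (v : Q) * ((MulAut.conjNormal g v : V) : Q) * ((MulAut.conjNormal g (MulAut.conjNormal g v) : V) : Q) = 1
        simp only [MulAut.conjNormal_apply]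
        calc (v : Q) * (g * v * g⁻¹) * (g * (g * v * g⁻¹) * g⁻¹) = ((v : Q) * g) ^ 3 * (g ^ 3)⁻¹ := by (simp only [pow_succ, pow_zero, one_mul]; group)
          _ = 1 := by rw [h1, h2, inv_one, mul_one]
      show Additive.ofMul (mk v * mk (MulAut.conjNormal g v) * mk (MulAut.conjNormal g (MulAut.conjNormal g v))) = 0
      rw [← map_mul, ← map_mul, e, map_one]
      rfl
  have hwc : t * u * (u * t)⁻¹ ∈ V := by
    rw [← QuotientGroup.eq_one_iff]
    show f _ = 1
    rw [map_mul f (t * u), map_inv, map_mul f t u, map_mul f u t, hft, hfu, hTc _ htbT _ (hTn.conj_mem _ htbT xb), mul_inv_cancel]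
  have key : ∀ m, a t m = a u m := module_eq hcube (a x) (a x⁻¹) (a t) (a u)
    (hrel x (by rw [hfx, hx3])) (hrel x⁻¹ (by rw [map_inv, hfx, inv_pow, hx3, inv_one]))
    (fun m => by
      have h0 := hrel (t * x) (by rw [map_mul, hft, hfx, hrelT]) m
      simp only [hmul, ← mul_assoc] at h0 ⊢
      exact h0)
    (fun m => by
      have h0 := hrel (u * x⁻¹) (by rw [map_mul, map_inv, hfu, hfx, hrelU]) m
      simp only [hmul, ← mul_assoc] at h0 ⊢
      exact h0)
    (fun m => by rw [hmul, hmul, hu, inv_mul_cancel_right])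
    (fun m => by rw [hmul, hmul, hu, mul_assoc x t, inv_mul_cancel_left])
    (fun m => by rw [hmul, ht2, hone]) (fun m => by rw [hmul, hu2, hone])
    (fun m => by rw [hmul, hmul, show t * u = (t * u * (u * t)⁻¹) * (u * t) by rw [inv_mul_cancel_right],
      ← hmul, hinn _ hwc])
  -- `u t` gives a nontrivial involution centralising `V`
  set w := (u * t) ^ 3 with hw
  have hwb : f w = xb * tb * xb⁻¹ * tb := by
    have hm : xb * tb * xb⁻¹ * tb ∈ T := mul_mem (hTn.conj_mem _ htbT xb) htbT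
    rw [hw, map_pow, map_mul, hfu, hft, pow_succ, pow_two, hTsq _ hm, one_mul]
  have hwb1 : f w ≠ 1 := by
    rw [hwb]
    intro e
    exact hne' ((eq_inv_of_mul_eq_one_left e).trans (inv_eq_of_mul_eq_one_left (hTsq _ htbT)))
  have hw2 : w ^ 2 = 1 := by rw [hw, ← pow_mul]; exact h _
  have hut : ∀ m, a (u * t) m = m := fun m => by rw [← hmul, key, hmul, hu2, hone]
  have hwtriv : ∀ m, a w m = m := fun m => by
    rw [hw, pow_succ, pow_two, ← hmul, ← hmul, hut, hut, hut]
  have hwo : orderOf w = 2 := orderOf_eq_prime hw2 (fun e => hwb1 (by rw [e, map_one]))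
  have hA := Coprime.le_centralizer_of_trivial_mod_frattini (A := zpowers w) (K := V)
    (le_normalizer_of_normal) (by
      rw [Nat.card_zpowers, hwo]
      obtain ⟨k, hk⟩ := (hV.to_subgroup (frattini V)).exists_card_eq
      rw [hk]; exact Nat.Coprime.pow_right k (by norm_num)) (by
      intro y hy k hk
      obtain ⟨i, rfl⟩ := Subgroup.mem_zpowers_iff.mp hy
      have hrmem : w ^ i = 1 ∨ w ^ i = w := by
        rw [← zpow_mod_orderOf, hwo]
        rcases Int.emod_two_eq_zero_or_one i with e | e <;> simp [e]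
      rcases hrmem with e | e <;> rw [e]
      · simp
      have h1 := congrArg Additive.toMul ((ha w ⟨k, hk⟩).symm.trans (hwtriv (Additive.ofMul (mk ⟨k, hk⟩))))
      have h2 : MulAut.conjNormal w (⟨k, hk⟩ : V) * (⟨k, hk⟩ : V)⁻¹ ∈ frattini V := by
        rw [← QuotientGroup.eq_one_iff]
        show mk _ = 1
        rw [map_mul, map_inv, mul_inv_eq_one]
        exact h1
      exact ⟨_, h2, by simp⟩)
  exact hwb1 ((QuotientGroup.eq_one_iff w).mpr (hC (hA (mem_zpowers w))))

/-- A normal series `1 ≤ O_{p'} ≤ O_{p',p}` with `p'`-factor on top gives `p`-length at most one. -/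
theorem plengthLE_one {G : Type u} [Group G] [Finite G] {p : ℕ} [hp : Fact p.Prime]
    (h : ¬ p ∣ (pCore p (G ⧸ pPrimeCore p G)).index) : PLengthLE p 1 G := by
  have e1 : (upperPSeries p G 1).1 = pPrimeCore p G := by
    have e : (upperPSeries p G 1).1 =
        (pPrimeCore p (G ⧸ (upperPSeries p G 0).1)).comap (QuotientGroup.mk' _) := by simp [upperPSeries]
    refine le_antisymm (Core.le_pPrimeCore ?_) ?_
    · rw [e]
      refine Core.coprime_card_pPrimeCore.coprime_dvd_left
        (Subgroup.card_comap_dvd_of_injective _ _ ((injective_iff_map_eq_one _).mpr fun x hx => ?_))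
      rw [QuotientGroup.mk'_apply, QuotientGroup.eq_one_iff] at hx
      exact Subgroup.mem_bot.mp hx
    · rw [e]
      exact Subgroup.map_le_iff_le_comap.mp (Core.map_pPrimeCore_le_of_surjective (QuotientGroup.mk'_surjective _))
  have e2 : (upperPSeries p G 2).1 = (pCore p (G ⧸ (upperPSeries p G 1).1)).comap (QuotientGroup.mk' _) := by
    simp [upperPSeries]
  have hidx : ¬ p ∣ (upperPSeries p G 2).1.index := by
    rw [e2, index_comap_of_surjective _ (QuotientGroup.mk'_surjective _),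
      ← Core.map_pCore (QuotientGroup.quotientMulEquivOfEq e1.symm),
      Subgroup.index_map_of_bijective (QuotientGroup.quotientMulEquivOfEq e1.symm).bijective]
    exact h
  have htop : pPrimeCore p (G ⧸ (upperPSeries p G 2).1) = ⊤ := by
    refine Core.pPrimeCore_eq_top ?_
    rw [← Subgroup.index_eq_card]
    exact (hp.out.coprime_iff_not_dvd.mpr hidx).symm
  show (upperPSeries p G 3).1 = ⊤
  have e3 : (upperPSeries p G 3).1 = (pPrimeCore p (G ⧸ (upperPSeries p G 2).1)).comap (QuotientGroup.mk' _) := by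
    simp [upperPSeries]
  rw [e3, htop, comap_top]

end Cfsg.Agent.ExponentSix
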